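import Groth.Agent.AlgSpc.Basic
import Groth.Agent.AlgSpc.LocP
import Groth.Agent.AlgSpc.SepLQF2
import Groth.Agent.AlgSpGeomRed.Space
import Groth.Prelude.Def_Flat
import Mathlib.AlgebraicGeometry.Morphisms.Finite
import Mathlib.AlgebraicGeometry.Artinian

/-!
Isolated points of schemes and algebraic spaces locally of finite type over a field.
-/

set_option autoImplicit false
set_option backward.isDefEq.respectTransparency false
universe u

open CategoryTheory Limits AlgebraicGeometry TopologicalSpace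
open AlgSp

namespace Groth.Agent.AlgSpIsolated

open Groth.Agent.AlgSpc

theorem finite_isolated (α : Type*) [TopologicalSpace α] [NoetherianSpace α] :
    {w : α | IsOpen ({w} : Set α)}.Finite := by
  refine Set.Finite.of_injOn (f := irreducibleComponent) (t := irreducibleComponents α)
    (fun w _ => irreducibleComponent_mem_irreducibleComponents w) ?_ NoetherianSpace.finite_irreducibleComponents
  intro w hw w' hw' h
  obtain ⟨z, -, hz, hz'⟩ := (isIrreducible_irreducibleComponent (x := w)).isPreirreducible {w} {w'} hw hw'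
    ⟨w, mem_irreducibleComponent, rfl⟩ ⟨w', h ▸ mem_irreducibleComponent, rfl⟩
  exact hz.symm.trans hz'

variable {U : Scheme.{u}} [IsLocallyNoetherian U]

theorem exists_noeth_nhd (v : ↥U) : ∃ A : U.Opens, v ∈ A ∧ NoetherianSpace ↥A := by
  obtain ⟨A, hA, hvA, -⟩ := exists_isAffineOpen_mem_and_subset (U := ⊤) (x := v) trivial
  refine ⟨A, hvA, ?_⟩
  have : IsAffine A.toScheme := hA
  have : IsNoetherian A.toScheme := ⟨⟩
  exact (inferInstance : NoetherianSpace A.toScheme)

theorem isClosed_of_isolated {W : Set ↥U} (hW : ∀ w ∈ W, IsOpen ({w} : Set ↥U) ∧ IsClosed ({w} : Set ↥U)) :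
    IsClosed W := by
  refine isClosed_of_closure_subset fun v hv => ?_
  obtain ⟨A, hvA, hn⟩ := exists_noeth_nhd v
  have hfin : (W ∩ (A : Set ↥U)).Finite := by
    refine ((finite_isolated ↥A).image Subtype.val).subset ?_
    rintro w ⟨hw, hwA⟩
    refine ⟨⟨w, hwA⟩, ?_, rfl⟩
    have e : ({⟨w, hwA⟩} : Set ↥A) = Subtype.val ⁻¹' {w} := Set.ext fun z => by simp [Subtype.ext_iff]
    simp only [Set.mem_ofPred_eq]
    rw [e]
    exact (hW w hw).1.preimage continuous_subtype_val
  have hc : IsClosed (W ∩ (A : Set ↥U)) := by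
    rw [← Set.biUnion_of_singleton (W ∩ (A : Set ↥U))]
    exact hfin.isClosed_biUnion fun w hw => (hW w hw.1).2
  have h1 : v ∈ closure ((A : Set ↥U) ∩ W) := A.isOpen.inter_closure ⟨hvA, hv⟩
  rw [Set.inter_comm, hc.closure_eq] at h1
  exact h1.1

theorem isOpen_of_closed_of_no_gen {u : ↥U} (hc : IsClosed ({u} : Set ↥U)) (hg : ∀ v, v ⤳ u → v = u) :
    IsOpen ({u} : Set ↥U) := by
  obtain ⟨A, huA, hn⟩ := exists_noeth_nhd u
  have hs : QuasiSober ↥A := inferInstanceAs (QuasiSober A.toScheme)
  let C : Set ↥A := ⋃₀ {Z ∈ irreducibleComponents ↥A | (⟨u, huA⟩ : ↥A) ∉ Z}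
  have hC : IsClosed C := by
    have : C = ⋃ Z ∈ {Z ∈ irreducibleComponents ↥A | (⟨u, huA⟩ : ↥A) ∉ Z}, Z := Set.sUnion_eq_biUnion
    rw [this]
    exact (NoetherianSpace.finite_irreducibleComponents.subset fun Z hZ => hZ.1).isClosed_biUnion
      fun Z hZ => isClosed_of_mem_irreducibleComponents Z hZ.1
  have key : Cᶜ = {(⟨u, huA⟩ : ↥A)} := by
    refine Set.ext fun v => ⟨fun hv => ?_, ?_⟩
    · by_contra hne
      have hZ := irreducibleComponent_mem_irreducibleComponents v
      have huZ : (⟨u, huA⟩ : ↥A) ∈ irreducibleComponent v := by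
        by_contra h
        exact hv ⟨_, ⟨hZ, h⟩, mem_irreducibleComponent⟩
      obtain ⟨g, hgZ⟩ := hs.sober isIrreducible_irreducibleComponent (isClosed_of_mem_irreducibleComponents _ hZ)
      have h1 : g.1 ⤳ u := (hgZ.specializes huZ).map continuous_subtype_val
      have h2 : g.1 ⤳ v.1 := (hgZ.specializes mem_irreducibleComponent).map continuous_subtype_val
      rw [hg _ h1] at h2
      exact hne (Subtype.ext (Set.mem_singleton_iff.1 (h2.mem_closed hc rfl)))
    · rintro rfl ⟨Z, ⟨-, h⟩, h'⟩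
      exact h h'
  have := A.isOpen.isOpenMap_subtype_val _ (key ▸ hC.isOpen_compl)
  rwa [Set.image_singleton] at this

theorem localDim_eq_zero_iff {u : ↥U} : FlatMor.localDim ↥U u = 0 ↔ IsOpen ({u} : Set ↥U) := by
  constructor
  · intro h
    have h1 : ∃ V : {V : Opens ↥U // u ∈ V}, topologicalKrullDim (V.1 : Set ↥U) ≤ 0 := by
      by_contra hno
      push Not at hno
      have : (1 : WithBot ℕ∞) ≤ FlatMor.localDim ↥U u := le_iInf fun V => Order.succ_le_of_lt (hno V)
      rw [h] at this
      exact not_lt.2 this (zero_lt_one' (WithBot ℕ∞))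
    obtain ⟨⟨V, huV⟩, hV⟩ := h1
    have : IsLocallyArtinian (Scheme.Opens.toScheme (X := U) V) := IsLocallyArtinian.of_topologicalKrullDim_le_zero hV
    have hd : DiscreteTopology ↥V := (inferInstance : DiscreteTopology ↥(Scheme.Opens.toScheme (X := U) V))
    have := V.isOpen.isOpenMap_subtype_val _ (isOpen_discrete ({⟨u, huV⟩} : Set ↥V))
    rwa [Set.image_singleton] at this
  · intro h
    refine le_antisymm ?_ (le_iInf fun V => ?_)
    · refine (iInf_le _ ⟨⟨{u}, h⟩, rfl⟩).trans ?_
      have : DiscreteTopology ↥({u} : Set ↥U) := inferInstance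
      exact topologicalKrullDim_zero_of_discreteTopology ↥({u} : Set ↥U)
    · have : Nonempty (V.1 : Set ↥U) := ⟨⟨u, V.2⟩⟩
      have : Nonempty (IrreducibleCloseds (V.1 : Set ↥U)) :=
        ⟨⟨closure {⟨u, V.2⟩}, isIrreducible_singleton.closure, isClosed_closure⟩⟩
      exact Order.krullDim_nonneg

section Field

variable {k : Type u} [Field k]

local notation "Sk" => Spec (CommRingCat.of k)

theorem closed_iff_of_etale {V W : Scheme.{u}} (g : V ⟶ Spec (CommRingCat.of k)) [LocallyOfFiniteType g]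
    (h : W ⟶ V) [Etale h] (w : ↥W) : IsClosed ({w} : Set ↥W) ↔ IsClosed ({h w} : Set ↥V) := by
  have hJ : JacobsonSpace ↥V := LocallyOfFiniteType.jacobsonSpace g
  refine ⟨fun hw => h.closePoints_subset_preimage_closedPoints hw, fun hv => ?_⟩
  have hd : DiscreteTopology ↥(h ⁻¹' {h w}) := by
    have := lqf_of_etale h
    exact (h.isDiscrete_preimage_singleton _).to_subtype
  obtain ⟨T, hT, hTw⟩ := isClosed_induced_iff.1 (isClosed_discrete ({⟨w, rfl⟩} : Set ↥(h ⁻¹' {h w})))
  have : ({w} : Set ↥W) = T ∩ h ⁻¹' {h w} := Set.ext fun z => by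
    constructor
    · rintro rfl
      exact ⟨(Set.ext_iff.1 hTw ⟨z, rfl⟩).2 rfl, rfl⟩
    · rintro ⟨hzT, hz⟩
      exact congrArg Subtype.val ((Set.ext_iff.1 hTw ⟨z, hz⟩).1 hzT)
  exact this ▸ hT.inter (hv.preimage h.continuous)

end Field

section Space

variable {k : Type u} [Field k] {X : Sp (Spec (CommRingCat.of k))}
  (p : X ⟶ (yon (Spec (CommRingCat.of k))).obj (Over.mk (𝟙 _)))

/-- Charts of a space locally of finite type over a field are schemes locally of finite type over it. -/
theorem lft_chart (hp : LocP @LocallyOfFiniteType p) {A : Over (Spec (CommRingCat.of k))}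
    {a : (yon _).obj A ⟶ X} (ha : RepWith @Etale a) : LocallyOfFiniteType A.hom := by
  have h := hp a (𝟙 _) (pre (a ≫ p)) ha (repWith_id _ _) (by rw [Category.comp_id, map_pre])
  rw [← Over.w (pre (a ≫ p))]
  simp only [Over.mk_hom]
  erw [Category.comp_id]
  exact h

theorem closed_of_same_point (hp : LocP @LocallyOfFiniteType p) {A : Over (Spec (CommRingCat.of k))}
    {a : (yon _).obj A ⟶ X} (ha : RepWith @Etale a) {v v' : ↥A.left}
    (h : Points.ofPt a v = Points.ofPt a v') (hv : IsClosed ({v} : Set ↥A.left)) :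
    IsClosed ({v'} : Set ↥A.left) := by
  haveI := lft_chart p hp ha
  obtain ⟨W, h₁, h₂, w, _, _, rfl, rfl, -⟩ := AlgSpGeomRed.exists_common ha ha v v' h
  exact (closed_iff_of_etale A.hom h₂.left w).1 ((closed_iff_of_etale A.hom h₁.left w).2 hv)

theorem all_closed (hp : LocP @LocallyOfFiniteType p) {A : Over (Spec (CommRingCat.of k))}
    {a : (yon _).obj A ⟶ X} (ha : RepWith @Etale a) (x : Points X)
    (hlc : IsLocallyClosed (Points.ofPt a ⁻¹' ({x} : Set (Points X))))
    {v : ↥A.left} (hv : Points.ofPt a v = x) : IsClosed ({v} : Set ↥A.left) := by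
  haveI := lft_chart p hp ha
  haveI : JacobsonSpace ↥A.left := LocallyOfFiniteType.jacobsonSpace A.hom
  obtain ⟨z, hz, hzc⟩ := nonempty_inter_closedPoints ⟨v, hv⟩ hlc
  exact closed_of_same_point p hp ha ((hz : Points.ofPt a z = x).trans hv.symm) hzc

theorem isolated_iff (hp : LocP @LocallyOfFiniteType p) {A : Over (Spec (CommRingCat.of k))}
    {a : (yon _).obj A ⟶ X} (ha : RepWith @Etale a) (u : ↥A.left) :
    IsOpen ({Points.ofPt a u} : Set (Points X)) ↔ IsOpen ({u} : Set ↥A.left) := by
  haveI := lft_chart p hp ha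
  haveI : IsLocallyNoetherian A.left := LocallyOfFiniteType.isLocallyNoetherian A.hom
  refine ⟨fun hx => ?_, fun hu => ?_⟩
  · have hP := hx.preimage (Points.continuous_ofPt a)
    refine isOpen_of_closed_of_no_gen (all_closed p hp ha _ hP.isLocallyClosed rfl) fun v hv => ?_
    have hvc := all_closed p hp ha _ hP.isLocallyClosed (hv.mem_open hP rfl)
    exact (hv.mem_closed hvc rfl).symm
  · have := isOpenMap_ofPt ha _ hu
    rwa [Set.image_singleton] at this

theorem isolated_iff_closed_no_gen (hX : IsAlgSpace X) (hp : LocP @LocallyOfFiniteType p) (x : Points X) :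
    IsOpen ({x} : Set (Points X)) ↔
      (IsClosed ({x} : Set (Points X)) ∧ ∀ x' : Points X, x' ⤳ x → x' = x) := by
  obtain ⟨A, a, ha, has⟩ := hX.atlas
  haveI := lft_chart p hp ha
  haveI : IsLocallyNoetherian A.left := LocallyOfFiniteType.isLocallyNoetherian A.hom
  obtain ⟨u, rfl⟩ := surjective_ofPt has x
  refine ⟨fun hx => ⟨?_, fun x' h => h.mem_open hx rfl⟩, fun ⟨hc, hg⟩ => ?_⟩
  · rw [← (isQuotientMap_ofPt ha has).isClosed_preimage]
    refine isClosed_of_isolated fun w hw => ⟨(isolated_iff p hp ha w).1 ?_, ?_⟩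
    · rwa [show Points.ofPt a w = Points.ofPt a u from hw]
    · exact all_closed p hp ha _ (hx.preimage (Points.continuous_ofPt a)).isLocallyClosed hw
  · have hP := hc.preimage (Points.continuous_ofPt a)
    refine (isolated_iff p hp ha u).2 (isOpen_of_closed_of_no_gen (all_closed p hp ha _ hP.isLocallyClosed rfl)
      fun v hv => ?_)
    have hvc := all_closed p hp ha _ hP.isLocallyClosed (hg _ (hv.map (Points.continuous_ofPt a)))
    exact (hv.mem_closed hvc rfl).symm

end Space

end Groth.Agent.AlgSpIsolated
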